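import Cfsg.Agent.Fe.T1

/-! The field endgame without the rationality hypothesis: the unique fixed point and transfer. -/

set_option autoImplicit false
set_option linter.unusedSectionVars false

namespace CF.Od.Fg
open Subgroup Cfsg CF.BG CF.Sig CF.GW CF.Ab2 CF.Fe
open scoped commutatorElement

universe u
variable {G : Type u} [Group G] [Finite G] {E G0 U T : Subgroup G} {t g u x y : G}

/-- the part of `CF.Fe.Fd` needed for the transfer argument -/
structure F0 (E G0 U : Subgroup G) (t : G) : Prop where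
  perf : ⁅G0, G0⁆ = G0
  syl : Syl 2 U G0
  τU : ∀ u ∈ U, t * u * t⁻¹ ∈ U
  h90 : ∀ u ∈ U, u * (t * u * t⁻¹) = 1 → ∃ v ∈ U, u = v⁻¹ * (t * v * t⁻¹)
  nE : E.Normal
  sE : NS E
  le : G0 ≤ E
  tt : t * t = 1
  nG : t ∈ 𝐍 G0
  uq : ∀ g, g * t * g⁻¹ ∈ 𝐍 G0 → g ∈ 𝐍 G0
  ab : ∀ s ∈ ⁅𝐍 G0, 𝐍 G0⁆, E2 s → s ∈ G0

namespace F0
variable (h : F0 E G0 U t)
include h

theorem ti' : t⁻¹ = t := inv_eq_of_mul_eq_one_right h.tt
theorem UG : U ≤ G0 := h.syl.le
theorem GM : G0 ≤ 𝐍 G0 := le_norm_self _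
theorem tU : t ∈ 𝐍 U := mem_norm_of h.τU

theorem ut (hu : u ∈ U) (k : u * t * (u * t) = 1) : ∃ v ∈ U, u * t = v⁻¹ * t * v := by
  obtain ⟨v, hv, e⟩ := h.h90 u hu (by rw [h.ti', ← k]; group)
  exact ⟨v, hv, by rw [e]; group⟩

theorem d1 (p : P2 T) (hg : g ∈ 𝐍 G0) (k : g * t * g⁻¹ ∈ T) : T ≤ 𝐍 G0 := by
  refine inf_eq_left.1 (p.nil.eq_of_inf_norm_le inf_le_left fun x hx => ⟨hx.1, ?_⟩)
  exact (mul_mem_cancel_right hg).1 (h.uq _ (mem_of_eq (conj_mem_of_norm hx.2 ⟨k, cmem hg h.nG⟩).2 (by group)))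

theorem sylE : Syl 2 U E := by
  have := h.nE
  obtain ⟨G1, e1⟩ : ∃ G1, G1 = E ⊔ zpowers t := ⟨_, rfl⟩
  have m : t ∈ G1 := e1 ▸ mem_sup_right (mem_zpowers t)
  have l : E ≤ G1 := e1 ▸ le_sup_left
  have UE := h.UG.trans h.le
  obtain ⟨S, hS, lS⟩ := exists_syl_le (M := G1) (sup_le (UE.trans l) (zpowers_le.2 m))
    (h.syl.pi.sup (piGrp_zpowers.2 (e2_of h.tt)) (.inr (zpowers_le.2 h.tU)))
  have tS : t ∈ S := lS (mem_sup_right (mem_zpowers t))
  have US : U ≤ S := le_sup_left.trans lS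
  have SM : S ≤ 𝐍 G0 := h.d1 hS.pi (one_mem _) (by simpa using tS)
  have S1 : Syl 2 S (𝐍 G0 ⊓ G1) := hS.of_le (le_inf SM hS.le) inf_le_right
  have SG : ∀ s ∈ S, s ∈ G0 → s ∈ U := fun s a b =>
    (h.syl.eq_of_le (le_inf US h.UG) inf_le_right hS.pi.inf_left).ge ⟨a, b⟩
  let M := (𝐍 G0).subgroupOf G1
  let j : M →* G := G1.subtype.comp M.subtype
  have ji : Function.Injective j := G1.subtype_injective.comp M.subtype_injective
  have jr : (⊤ : Subgroup M).map j = 𝐍 G0 ⊓ G1 := by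
    rw [← map_map, map_top_subtype, subgroupOf_map_subtype]
  have ex : ∀ s ∈ 𝐍 G0 ⊓ G1, ∃ x, j x = s := fun s k => ⟨⟨⟨s, k.2⟩, k.1⟩, rfl⟩
  have jm : ∀ x, j x ∈ 𝐍 G0 ⊓ G1 := fun x => ⟨x.2, x.1.2⟩
  have ab : ∀ x, Abelianization.of x = 1 ↔ j x ∈ ⁅𝐍 G0 ⊓ G1, 𝐍 G0 ⊓ G1⁆ := fun x => by
    rw [← jr, ← map_commutator, mem_map_iff_mem ji, ← MonoidHom.mem_ker, Abelianization.ker_of]; rfl
  have a1 : ∀ x, j x ∈ S → Abelianization.of x = 1 → j x ∈ U := fun x a b =>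
    SG _ a (h.ab _ (der_mono inf_le_left ((ab x).1 b)) (hS.pi.elt a))
  have a2 : ∀ x, j x ∈ U → Abelianization.of x = 1 := fun x a =>
    (ab x).2 (der_mono (le_inf h.GM (h.le.trans l)) (h.perf.ge (h.UG a)))
  have kl : ∀ {A : Type u} [CommGroup A] (V : G1 →* A) (x : G1), (x : G) ∈ E → V x = 1 := fun V x k =>
    Abelianization.commutator_subset_ker V (commutator_mono le_top le_top
      ((subgroupOf_comm l l).le (show x ∈ ⁅E, E⁆.subgroupOf G1 from h.sE.perf.ge k)))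
  have tr := fun {A : Type u} [CommGroup A] (f : M →* A) =>
    CF.Dbl.tt (M := M) (t := ⟨t, m⟩) (Subtype.ext h.tt) h.nG (fun g k => h.uq g k) f
  let τ : M := ⟨⟨t, m⟩, h.nG⟩
  have ττ : τ * τ = 1 := ji (by rw [map_mul, map_one]; exact h.tt)
  have key : ∀ x, j x ∈ S → j x ∈ E → ∃ y, j y ∈ S ∧ j y ∈ E ∧ Abelianization.of x = Abelianization.of y ^ 2 := by
    intro x xS xE
    have u : j ⁅x, τ⁆ ∈ U := a1 _ (map_commutatorElement j x τ ▸ cmm xS tS)
      (by rw [map_commutatorElement, commutatorElement_eq_one_iff_mul_comm, mul_comm])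
    obtain ⟨v, hv, e⟩ := h.ut u (by
      rw [show t = j τ from rfl, ← map_mul, ← map_mul, commutatorElement_def, inv_mul_cancel_right,
        show x * τ * x⁻¹ * (x * τ * x⁻¹) = x * (τ * τ) * x⁻¹ by group, ττ]; simp)
    obtain ⟨v, rfl⟩ := ex v (S1.le (US hv))
    rw [map_commutatorElement, commutatorElement_def, show j τ = t from rfl, inv_mul_cancel_right] at e
    obtain ⟨V, -, b⟩ := tr ((QuotientGroup.mk' (powMonoidHom 2 : _ →* Abelianization M).range).comp Abelianization.of)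
    have b := b (fun a => by
      obtain ⟨a, rfl⟩ := QuotientGroup.mk'_surjective _ a
      rw [← map_mul]; exact (QuotientGroup.eq_one_iff _).2 ⟨a, pow_two a⟩) (v * x).1 (v * x).2
      (Subtype.ext (show j v * j x * t = t * (j v * j x) by
        rw [show j v * j x * t = j v * (j x * t * (j x)⁻¹) * j x by group, e]; group))
    rw [kl V _ (mul_mem (UE hv) xE), eq_comm] at b
    obtain ⟨w, f⟩ := (QuotientGroup.eq_one_iff _).1 b
    obtain ⟨w, rfl⟩ : ∃ x, Abelianization.of x = w := Quot.exists_rep w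
    rw [show Abelianization.of (⟨(v * x).1, (v * x).2⟩ : M) = Abelianization.of (v * x) from rfl, map_mul, a2 v hv,
      one_mul, powMonoidHom_apply] at f
    obtain ⟨w, wE, f⟩ : ∃ w : M, j w ∈ E ∧ Abelianization.of w ^ 2 = Abelianization.of x := by
      rcases mem_sup_zp h.tt (e1.le (jm w).2) with k | k
      · exact ⟨w, k, f⟩
      · exact ⟨w * τ, k, by rw [map_mul, mul_pow, f, ← map_pow, pow_two, ττ, map_one, mul_one]⟩
    obtain ⟨y, o, hy, -, py, po, rfl⟩ := exists_piPart {2} w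
    have yE : j y ∈ E := (zpowers_le.2 (show _ ∈ E.comap j from wE)) hy
    obtain ⟨k, hk, c⟩ := S1.syl_cj_le (zpowers_le.2 (jm y)) (piGrp_zpowers.2 (py.dvd (orderOf_map_dvd j y)))
    obtain ⟨k, rfl⟩ := ex k hk
    have c := c (conj_mem_cj.2 (mem_zpowers _))
    refine ⟨k * y * k⁻¹, by simpa using c, by simpa using this.conj_mem _ yE (j k), ?_⟩
    have px : E2 x := (hS.pi.elt xS).dvd (orderOf_injective j ji x).symm.dvd
    have z1 : Abelianization.of o ^ 2 = 1 := PiElt.eq_one (π := {2})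
      (by rw [show Abelianization.of o ^ 2 = Abelianization.of x * (Abelianization.of y ^ 2)⁻¹ by
            rw [← f, map_mul, mul_pow, mul_inv_cancel_comm]]
          exact PiElt.mul (px.dvd (orderOf_map_dvd _ _)) (PiElt.pow (py.dvd (orderOf_map_dvd _ _)) 2).inv
            (mul_comm _ _))
      (PiElt.pow (po.dvd (orderOf_map_dvd _ _)) 2)
    rw [← f, map_mul, mul_pow, z1, mul_one, map_mul, map_mul, map_inv, mul_inv_cancel_comm]
  have it : ∀ n x, j x ∈ S → j x ∈ E → ∃ y, j y ∈ S ∧ j y ∈ E ∧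
      Abelianization.of x = Abelianization.of y ^ 2 ^ n := fun n x a b => by
    induction n with
    | zero => exact ⟨x, a, b, by simp⟩
    | succ n ih =>
      obtain ⟨y, a, b, e⟩ := ih
      obtain ⟨w, a, b, e'⟩ := key y a b
      exact ⟨w, a, b, by rw [e, e', ← pow_mul, pow_succ']⟩
  refine le_antisymm (fun s hs => ?_) (le_inf US UE) ▸ hS.inf_normal ⟨l, le_normalizer_of_normal⟩
  obtain ⟨x, rfl⟩ := ex s (S1.le hs.1)
  obtain ⟨n, e⟩ := hS.pi.card_pow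
  obtain ⟨y, a, -, f⟩ := it n x hs.1 hs.2
  refine a1 x hs.1 ?_
  rw [f, ← map_pow, show y ^ 2 ^ n = 1 from ji ?_, map_one]
  rw [map_pow, map_one, ← e]
  exact orderOf_dvd_iff_pow_eq_one.1 (orderOf_dvd_card' a)

theorem two (p : P2 T) (l : T ≤ E) (n : T ≤ 𝐍 G0) : T ≤ G0 := by
  obtain ⟨g, hg, k⟩ := (h.sylE.of_le (le_inf (h.UG.trans h.le) (h.UG.trans h.GM)) inf_le_left).syl_le_cj (le_inf l n) p
  exact k.trans (cj_le_of_norm hg.2 h.UG)

/-- conjugate elements commuting with `t` are conjugate under the normaliser -/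
theorem fz (a : x * t = t * x) (b : y * t = t * y) (c : IsConj x y) : ∃ m ∈ 𝐍 G0, m * x * m⁻¹ = y := by
  obtain ⟨n, rfl⟩ := isConj_iff.1 c
  have p := piGrp_zpowers.2 (e2_of h.tt)
  obtain ⟨T, s, l⟩ := exists_syl_le (zpowers_le.2 (mem_cent1.2 b.symm)) p
  obtain ⟨T', s', l'⟩ := exists_syl_le (zpowers_le.2 (mem_cent1.2 a.symm)) p
  obtain ⟨d, hd, f⟩ := (cj_cent1 n x ▸ hall_cj.2 s').syl_conj s
  refine ⟨d * n, h.uq _ (h.d1 s.pi (one_mem _) (by simpa using l (mem_zpowers t))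
    (by rw [f, cj_cj]; exact conj_mem_cj.2 (l' (mem_zpowers t)))), ?_⟩
  rw [show d * n * x * (d * n)⁻¹ = d * (n * x * n⁻¹) * d⁻¹ by group, mem_cent1.1 hd, mul_inv_cancel_right]

end F0
end CF.Od.Fg
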