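import Cfsg.Agent.Od.J3

/-! Long root structure of orthogonal type: the map `j` on the root elements, collinear pairs. -/

set_option autoImplicit false
set_option linter.unusedSectionVars false

namespace CF.Od
open Subgroup Cfsg CF.BG CF.Sig CF.Ab2 CF.Rd
open scoped commutatorElement

variable {G : Type*} [Group G] [Finite G] {F : Type*} [Field F] {L U Y Q H K : Subgroup G} {z b e : F → G}
  {w y₀ c₀ s₀ g x y n t q u v l u₀ v₀ : G} {c d : F} {j : G → G}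

namespace R0
variable (h : R0 L U Y Q z b e w y₀ c₀ s₀)
include h

theorem colzb (a : c ≠ 0) (k : d ≠ 0) : Col L (z 1) (b 1) (z c) (b d) := by
  obtain ⟨g, m, i, l, -⟩ := h.tor (c / d) d (div_ne_zero a k) k
  exact ⟨g, m.1, by rw [i, mul_one, div_mul_cancel₀ _ k], by rw [l, mul_one]⟩

theorem clz (a : c ≠ 0) : Cl L (z 1) (z c) := (h.colzb a one_ne_zero).imp fun _ k => ⟨k.1, k.2.1⟩

theorem clb (c : F) (a : d ≠ 0) : Cl L (z 1) (z c * b d) := by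
  have := ((h.clz a).cj h.wL).cj (h.eL (c / d))
  rwa [h.wz, h.ebc, div_mul_cancel₀ _ a] at this

theorem clV (m : v ∈ Rg z ⊔ Rg b) (n : v ≠ 1) : Cl L (z 1) v := by
  obtain ⟨c, d, rfl⟩ := h.mV.1 m
  by_cases k : d = 0
  · subst k
    rw [h.b0, mul_one] at n ⊢
    exact h.clz fun i => n (i ▸ h.z0)
  · exact h.clb c k

theorem ncl : ¬ Cl L (z 1) 1 := fun ⟨_, _, k⟩ => h.z1 (by simpa using k)

theorem bne : b 1 ≠ 1 := fun k => one_ne_zero (h.zb_inj (c := 0) (c' := 0) (d' := 0) (by rw [k, h.b0])).2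

variable (J : J0 L t (z 1) j) (f : Hy L t)
include J

theorem j1 : j 1 = 1 := J.j0 1 h.ncl

theorem jV (m : v ∈ Rg z ⊔ Rg b) : j v ∈ 𝐂 (Rg z ⊔ Rg b) :=
  mem_cent.2 fun _ k => J.cen (h.QL (h.VQ k)) (h.Va.mul_comm k m)

include f

theorem tV (m : v ∈ Rg z ⊔ Rg b) : j v * t * (j v)⁻¹ = t * v := by
  by_cases n : v = 1
  · rw [n, h.j1 J]; simp
  · exact J.tj f (h.clV m n)

theorem xV (m : v ∈ Rg z ⊔ Rg b) : j v ∈ Xs L t (Rg z ⊔ Rg b) (U ⊓ 𝐂 (Rg z ⊔ Rg b)) :=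
  ⟨⟨⟨mem_cent.2 fun _ k => J.cen (h.US.le k.1) (mem_cent.1 k.2 v m).symm, h.jV J m⟩, J.oj v⟩, v, m, h.tV J f m⟩

theorem xZ (c : F) : j (z c) ∈ Xs L t (Rg z) Q := ⟨⟨⟨mem_cent.2 fun _ k => J.cen (h.QL k) (h.qz k c),
  (h.cV.1 (h.jV J (mem_sup_left (rg_mem z c)))).1⟩, J.oj _⟩, _, rg_mem z c, h.tV J f (mem_sup_left (rg_mem z c))⟩

end R0

namespace R1
variable (h : R1 L U Y Q z b e w y₀ c₀ s₀)
include h

theorem col0 (J : J0 L t (z 1) j) (f : H2 L t) : ∃ a ∈ Rg z ⊔ Rg b, j (z 1) * j (b 1) = j (z 1 * b 1) * a ∨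
    j (z 1) * j (b 1) = j (z 1 * b 1) * (t * a) := by
  have mz : z 1 ∈ Rg z ⊔ Rg b := mem_sup_left (rg_mem z 1)
  have mb : b 1 ∈ Rg z ⊔ Rg b := mem_sup_right (rg_mem b 1)
  have s : ∀ v ∈ Rg z ⊔ Rg b, v * v = 1 := fun _ => h.VV
  have l := h.VQ.trans h.QL
  refine f.dif l s h.cP (h.xV J f.toHy (mul_mem mz mb)) (mul_mem (h.xV J f.toHy mz) (h.xV J f.toHy mb)) (J.e2 _)
    (e2_mul (f.nilX l s h.cP) (h.xV J f.toHy mz) (h.xV J f.toHy mb) (J.e2 _) (J.e2 _)) ?_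
  rw [h.tV J f.toHy (mul_mem mz mb), tr_mul (h.tV J f.toHy mz) (h.tV J f.toHy mb), cfix (h.jV J mz) mb]

theorem exJ1 (f : Fu L t (z 1)) (o2 : ∀ a ∈ CF.Ld.O2 (𝐂₁ t), a * a = 1 → a ∈ L)
    (nb : (∀ c : F, c = 0 ∨ c = 1) → NB L Y t (z 1) s₀) :
    ∃ j, J0 L t (z 1) j ∧ ∃ a ∈ Rg z ⊔ Rg b, j (z 1) * j (b 1) = j (z 1 * b 1) * a := by
  obtain ⟨x, a, p, k⟩ := h.b3d f o2 nb
  obtain ⟨j, J, rfl⟩ := exJ a p k
  obtain ⟨v, m, i | i⟩ := h.col0 J (h.h2 f)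
  · exact ⟨j, J, v, m, i⟩
  have zt := f.Lt (h.zL 1)
  have xz := J.cen (h.zL 1) (v := z 1) rfl
  obtain ⟨j', J', r⟩ := exJ (x := j (z 1) * t) (u := z 1) (mul_mem a ⟨cent_anti inf_le_left f.tC, t_ot⟩)
    (e2_mul ((h.h2 f).nilX h.zL' h.ZZ h.cQ) (h.xZ J f.toHy 1) ⟨⟨⟨cent_anti h.QL f.tC, cent_anti h.zL' f.tC⟩, t_ot⟩, 1, one_mem _,
      by simp⟩ p (Rd.e2_of_sq f.tt)) (by rw [← k]; group)
  have s : ∀ v, Cl L (z 1) v → j' v = j v * t := by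
    rintro _ ⟨l, n, rfl⟩
    rw [J'.cj l n, J.cj l n, r, ← conj_mul, fix_of (f.Lt n)]
  have mb : b 1 ∈ Rg z ⊔ Rg b := mem_sup_right (rg_mem b 1)
  refine ⟨j', J', v * b 1, mul_mem m mb, ?_⟩
  have := tr_inv' (h.tV J f.toHy mb) (mem_cent.1 (h.jV J mb) _ mb).symm (h.bb 1)
  rw [r, s _ (h.clb 1 one_ne_zero), s _ (h.clV mb h.bne), mul_assoc (j _) t (v * _), ← mul_assoc t v, ← mul_assoc (j _) (t * v), ← i]
  calc _ = j (z 1) * j (b 1) * ((j (b 1))⁻¹ * t * j (b 1) * t) := by group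
    _ = _ := by rw [this, ← f.Lt (h.bL 1), mul_assoc (b 1), f.tt, mul_one]

variable (J : J0 L t (z 1) j) (f : H2 L t)
include J f

theorem sqz : ∃ k, j (z 1) * j (z 1) = z k := by
  have x := h.xZ J f.toHy 1
  have xz := (J.cen (h.zL 1) (v := z 1) rfl).symm
  obtain ⟨v, m, i | i⟩ := f.dec2 h.zL' h.ZZ h.cQ (tr_sq J.xt xz (h.zz 1)) (mul_mem x x).1.1.1 (J.x2.mul J.x2 rfl)
  · exact (h.mZ.1 m).imp fun _ k => i.trans k.symm
  · exact (h.z1 (tr_ne J.xt (mem_cent.1 x.1.1.2 v m).symm (by rw [← i, mul_assoc]))).elim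

variable (a : ∃ a ∈ Rg z ⊔ Rg b, j (z 1) * j (b 1) = j (z 1 * b 1) * a)
include a

theorem s3 (m : Col L (z 1) (b 1) u v) : j u * j v = j v * j u ∧ j u * j v * j (u * v) = 1 := by
  obtain ⟨k, s⟩ := h.sqz J f
  obtain ⟨_, m1, a⟩ := a
  obtain ⟨α, β, rfl⟩ := h.mV.1 m1
  have mz : z 1 ∈ Rg z ⊔ Rg b := mem_sup_left (rg_mem z 1)
  have mb : b 1 ∈ Rg z ⊔ Rg b := mem_sup_right (rg_mem b 1)
  have ez : e 1 * j (z 1) * (e 1)⁻¹ = j (z 1) := by rw [← J.cj _ (h.eL 1), fix_of (h.ez _ _)]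
  have eb : e 1 * j (b 1) * (e 1)⁻¹ = j (z 1 * b 1) := by rw [← J.cj _ (h.eL 1), h.ebc, mul_one]
  have em : e 1 * j (z 1 * b 1) * (e 1)⁻¹ = j (b 1) := by
    rw [← J.cj _ (h.eL 1), ← conj_mul, h.ebc, mul_one, fix_of (h.ez _ _), ← mul_assoc, h.zz, one_mul]
  have ev : ∀ c d, e 1 * (z c * b d) * (e 1)⁻¹ = z (c + d) * b d := fun c d => by
    rw [← conj_mul, h.ebc, one_mul, fix_of (h.ez _ _), h.za, mul_assoc]
  have wz : w * j (z 1) * w⁻¹ = j (b 1) := by rw [← J.cj _ h.wL, h.wz]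
  have wb : w * j (b 1) * w⁻¹ = j (z 1) := by rw [← J.cj _ h.wL, h.wb]
  have a' : j (b 1) * j (z 1) = j (z 1 * b 1) * (z β * b α) := by
    rw [← wz, ← wb, conj_mul, wb, a, ← conj_mul, ← J.cj _ h.wL, ← conj_mul, ← conj_mul, h.wz, h.wb, h.wz, h.wb, h.bz, h.bz]
  have bz : ∀ c, z c * j (b 1) = j (b 1) * z c := fun c => mem_cent.1 (h.jV J mb) _ (mem_sup_left (rg_mem z c))
  have e1 : k = β := h.zinj' (mul_left_cancel (a := j (b 1)) (by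
    have := congrArg (fun x => e 1 * x * (e 1)⁻¹) a
    simp only [← conj_mul (b := e 1) (a := j _), ez, eb, em, ev] at this
    rw [← bz, ← s, mul_assoc, a, ← mul_assoc, this, mul_assoc, h.zb_mul, h.aa, h.b0, mul_one, add_right_comm, h.aa, zero_add]))
  have e2 : k = α := h.zinj' (mul_left_cancel (a := j (b 1)) (by
    have := congrArg (fun x => e 1 * x * (e 1)⁻¹) a'
    simp only [← conj_mul (b := e 1) (a := j _), ez, eb, em, ev] at this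
    rw [← s, ← mul_assoc, a', mul_assoc, mem_cent.1 (h.jV J mz) _ (h.mV.2 ⟨_, _, rfl⟩), ← mul_assoc, this, mul_assoc, h.zb_mul,
      h.aa, h.b0, mul_one, add_right_comm, h.aa, zero_add]))
  subst e1; subst e2
  have sm : j (z 1 * b 1) * j (z 1 * b 1) = z k * b k := by
    rw [← eb, conj_mul, ← wz, conj_mul, s, h.wz, h.ebc, one_mul]
  obtain ⟨l, n, rfl, rfl⟩ := m
  rw [conj_mul, J.cj l n, J.cj l n, J.cj l n, conj_mul, conj_mul, conj_mul, a, a', mul_assoc (j _),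
    mem_cent.1 (h.jV J (mul_mem mz mb)) _ m1, ← mul_assoc (j _) (j _), sm, h.VV m1]
  simp

theorem sq (v : G) : j v * j v = 1 := by
  obtain ⟨k, s⟩ := h.sqz J f
  have c1 := h.s3 J f a h.pl1
  have c2 := h.s3 J f a h.pl2
  have c3 := h.s3 J f a (h.pl1.cj h.wL)
  have c4 := h.s3 J f a (h.pl2.cj h.wL)
  have c5 := (h.s3 J f a ⟨1, one_mem _, rfl, rfl⟩).1
  simp only [one_mul, inv_one, mul_one] at c5
  rw [← conj_mul (b := w)] at c4
  simp only [h.wz, h.wb, fix_of h.wc] at c3 c4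
  have sb : j (b 1) * j (b 1) = b k := by rw [← h.wz, J.cj _ h.wL, conj_mul, s, h.wz]
  have : z k * b 0 = z 0 * b k := by
    have i := c4.2
    rw [← mul_assoc (b 1), h.bz, mul_assoc (z 1), ← c2.2, mul_left_inj, ← inv_eq_of_mul_eq_one_right c1.2,
      ← inv_eq_of_mul_eq_one_right c3.2, c1.1, c3.1] at i
    rw [h.b0, h.z0, mul_one, one_mul, ← s, ← sb]
    have i1 : j (b 1) * ((j (z 1))⁻¹ * (j c₀)⁻¹) = j (z 1) * ((j (b 1))⁻¹ * (j c₀)⁻¹) := by simpa using i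
    rw [← mul_assoc, ← mul_assoc, mul_left_inj, mul_inv_eq_iff_eq_mul, mul_assoc, ← (show Commute _ _ from c5).inv_right.eq,
      ← mul_assoc, eq_mul_inv_iff_mul_eq] at i1
    exact i1.symm
  rw [(h.zb_inj this).1, h.z0] at s
  by_cases n : Cl L (z 1) v
  · obtain ⟨l, m, rfl⟩ := n
    rw [J.cj l m, conj_mul, s]; simp
  · rw [J.j0 v n, mul_one]

theorem colm (m : Col L (z 1) (b 1) u v) : j u * j v = j v * j u ∧ j (u * v) = j u * j v := by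
  have := h.s3 J f a m
  exact ⟨this.1, by rw [← inv_sq (h.sq J f a (u * v)), eq_inv_of_mul_eq_one_left this.2]⟩

end R1
end CF.Od
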