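import Cfsg.Agent.Od.O1
import Cfsg.Agent.Od.K0
import Cfsg.Agent.Ld.O3

/-! Split endgame for orthogonal groups: basic facts (compare `Tw6/K1a`). -/

set_option autoImplicit false
set_option linter.unusedSectionVars false

namespace CF.Od

open Cfsg Subgroup CF.Ld CF.Loc CF.LX
open CF.Ld.OK (c1m p2 csle cseq hom1 upc)
open CF.Ld.Ty (cnt cle cjc mono_map cyc2)
open scoped commutatorElement

/-- Two commuting subgroups swapped by `t`, which fixes a unique point of `G / M`. -/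
structure KA {G Φ : Type*} [Group G] [CommGroup Φ] (E M A S W : Subgroup G) (t : G) (φ : G → Φ) : Prop where
  en : E.Normal
  ep : ⁅E, E⁆ = E
  AE : A ≤ E
  AM : A ≤ M
  syl : IsSyl 2 S ⊤
  SM : S ≤ M
  tS : t ∈ S
  tt : t * t = 1
  uq : ∀ x : G, x * t * x⁻¹ ∈ M → x ∈ M
  com : A ≤ 𝐂(cj[t] A)
  sw : ∀ m ∈ M, (cj[m] A = A ∧ cj[m] (cj[t] A) = cj[t] A) ∨ (cj[m] A = cj[t] A ∧ cj[m] (cj[t] A) = A)
  fai : S ⊓ 𝐂(A) ⊓ 𝐂(cj[t] A) = ⊥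
  ne : S ⊓ A ≠ ⊥
  φm : ∀ x ∈ M ⊓ 𝐍(A), ∀ y ∈ M ⊓ 𝐍(A), φ (x * y) = φ x * φ y
  kA : ∀ x ∈ A, φ x = 1
  kC : ∀ x ∈ M ⊓ 𝐂(A), φ x = 1
  WS : W ≤ S ⊓ 𝐍(A)
  tW : cj[t] W = W
  dec : ∀ s ∈ S ⊓ 𝐍(A), ∃ u ∈ S ⊓ A, ∃ v ∈ S ⊓ cj[t] A, ∃ w ∈ W, s = u * v * w
  cen : ∀ w ∈ W, φ w = 1 → w ∈ 𝐂(A)

variable {G : Type*} [Group G] [Finite G] {Φ : Type*} [CommGroup Φ] {E M A S W H R : Subgroup G} {t s r w x y m u v : G}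
  {φ : G → Φ} {k : ℕ}

namespace Kk
/-- the type of an element normalizing `A` -/
def ty (t : G) (φ : G → Φ) (s : G) : Φ × Φ := (φ s, φ (t * s * t))
theorem ty_iff : ty t φ s = ty t φ r ↔ φ s = φ r ∧ φ (t * s * t) = φ (t * r * t) := by simp [ty]
theorem ty_one : ty t φ s = 1 ↔ φ s = 1 ∧ φ (t * s * t) = 1 := by simp [ty, Prod.ext_iff]
theorem sq_cj (b : G) (c : s * s = 1) : b * s * b⁻¹ * (b * s * b⁻¹) = 1 := by rw [conj_mul, c, mul_one, mul_inv_cancel]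
theorem ic (b s : G) : IsConj s (b * s * b⁻¹) := isConj_iff.2 ⟨b, rfl⟩
theorem sq_ic (e : IsConj s r) (c : s * s = 1) : r * r = 1 := let ⟨b, e⟩ := isConj_iff.1 e; e ▸ sq_cj b c
end Kk
open Kk

namespace KA

variable (h : KA E M A S W t φ)
include h

theorem ti : t⁻¹ = t := inv_eq_of_mul_eq_one_right h.tt
theorem tM : t ∈ M := h.SM h.tS
theorem tc (x : G) : t * (t * x * t) * t = x := by rw [← mul_assoc, ← mul_assoc, h.tt, one_mul, mul_assoc, h.tt, mul_one]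
theorem tmul (x y : G) : t * (x * y) * t = t * x * t * (t * y * t) := by
  rw [show t * x * t * (t * y * t) = t * x * (t * t) * y * t by group, h.tt, mul_one, mul_assoc t x]
theorem tinv (x : G) : t * x⁻¹ * t = (t * x * t)⁻¹ := by simp only [mul_inv_rev, h.ti, mul_assoc]
theorem tfix (c : w * t = t * w) : t * w * t = w := by rw [← c, mul_assoc, h.tt, mul_one]
theorem cjtt (X : Subgroup G) : cj[t] (cj[t] X) = X := by rw [← cj_mul, h.tt, cj_one]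
theorem mem_t {X : Subgroup G} : x ∈ cj[t] X ↔ t * x * t ∈ X := by rw [mem_cj, h.ti]
theorem t_mem {X : Subgroup G} (c : x ∈ X) : t * x * t ∈ cj[t] X := h.mem_t.2 ((h.tc x).symm ▸ c)
theorem tS' (c : x ∈ S) : t * x * t ∈ S := mul_mem (mul_mem h.tS c) h.tS
theorem com' : cj[t] A ≤ 𝐂(A) := le_centralizer_comm.1 h.com
theorem cm12 (hu : u ∈ A) (hv : v ∈ cj[t] A) : u * v = v * u := mem_centralizer_iff'.1 (h.com' hv) u hu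
theorem c12 : x ∈ 𝐂(cj[t] A) ↔ t * x * t ∈ 𝐂(A) := by rw [← cj_centralizer, h.mem_t]
theorem triv (hS : x ∈ S) (h1 : x ∈ 𝐂(A)) (h2 : x ∈ 𝐂(cj[t] A)) : x = 1 := mem_bot.1 (h.fai ▸ ⟨⟨hS, h1⟩, h2⟩)
theorem int (hS : x ∈ S) (h1 : x ∈ A) (h2 : x ∈ cj[t] A) : x = 1 := h.triv hS (h.com' h2) (h.com h1)
theorem nAA : A ≠ cj[t] A := fun e => h.ne (eq_bot_iff.2 fun _ c => mem_bot.2 (h.int c.1 c.2 (e ▸ c.2)))
theorem tn : t ∉ 𝐍(A) := fun c => h.nAA (cj_eq_self c).symm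
theorem nB (c : m ∈ M ⊓ 𝐍(A)) : m ∈ 𝐍(cj[t] A) :=
  (h.sw m c.1).elim (fun d => cj_eq_self_iff.1 d.2) fun d => absurd ((cj_eq_self c.2).symm.trans d.1) h.nAA
theorem swp (hm : m ∈ M) (n : m ∉ 𝐍(A)) : cj[m] A = cj[t] A ∧ cj[m] (cj[t] A) = A :=
  (h.sw m hm).resolve_left fun d => n (cj_eq_self_iff.1 d.1)
theorem swp_mul (hm : m ∈ M) (hx : x ∈ M) (n : m ∉ 𝐍(A)) (n' : x ∉ 𝐍(A)) : m * x ∈ 𝐍(A) :=
  cj_eq_self_iff.1 (by rw [cj_mul, (h.swp hx n').1, (h.swp hm n).2])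
theorem mt (hm : m ∈ M) (n : m ∉ 𝐍(A)) : m * t ∈ M ⊓ 𝐍(A) := ⟨mul_mem hm h.tM, h.swp_mul hm h.tM n h.tn⟩
theorem tj (c : s ∈ M ⊓ 𝐍(A)) : t * s * t ∈ M ⊓ 𝐍(A) :=
  h.mt (mul_mem h.tM c.1) fun d => h.tn ((𝐍(A).mul_mem_cancel_right c.2).1 d)
theorem S0 : S ⊓ 𝐍(A) ≤ M ⊓ 𝐍(A) := inf_le_inf_right _ h.SM
theorem tjS (c : s ∈ S ⊓ 𝐍(A)) : t * s * t ∈ S ⊓ 𝐍(A) := ⟨h.tS' c.1, (h.tj (h.S0 c)).2⟩
theorem A0 : A ≤ M ⊓ 𝐍(A) := le_inf h.AM le_normalizer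
theorem BM : cj[t] A ≤ M := cj_le_of_mem h.tM h.AM
theorem B0 : cj[t] A ≤ M ⊓ 𝐍(A) := le_inf h.BM (h.com'.trans (centralizer_le_normalizer _))
theorem BE : cj[t] A ≤ E := (cj_mono t h.AE).trans (by have := h.en; rw [cj_normal])
theorem W0 : W ≤ M ⊓ 𝐍(A) := h.WS.trans h.S0
theorem U1 : S ⊓ A ≤ S ⊓ 𝐍(A) := inf_le_inf_left _ le_normalizer
theorem U2 : S ⊓ cj[t] A ≤ S ⊓ 𝐍(A) := inf_le_inf_left _ (h.B0.trans inf_le_right)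
theorem tU : cj[t] (S ⊓ A) = S ⊓ cj[t] A := by rw [cj_inf, cj_eq_self_of_mem h.tS]
theorem t12 (c : u ∈ S ⊓ A) : t * u * t ∈ S ⊓ cj[t] A := ⟨h.tS' c.1, h.t_mem c.2⟩
theorem t21 (c : v ∈ S ⊓ cj[t] A) : t * v * t ∈ S ⊓ A := ⟨h.tS' c.1, h.mem_t.1 c.2⟩
theorem wt (c : w ∈ W) : t * w * t ∈ W := h.tW ▸ h.t_mem c
theorem pS : IsPGroup 2 S := h.syl.isPGroup
theorem sylM : IsSyl 2 S M := h.syl.mono h.SM le_top
theorem sylE : IsSyl 2 (S ⊓ E) E := have := h.en; h.syl.inf_normal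

theorem φ1 : φ 1 = 1 := (hom1 h.φm).1
theorem φi (c : x ∈ M ⊓ 𝐍(A)) : φ x⁻¹ = (φ x)⁻¹ := (hom1 h.φm).2.1 x c
theorem φc (hm : m ∈ M ⊓ 𝐍(A)) (c : x ∈ M ⊓ 𝐍(A)) : φ (m * x * m⁻¹) = φ x := (hom1 h.φm).2.2 m hm x c
theorem φm' (c : x ∈ M ⊓ 𝐍(A)) (d : y ∈ M ⊓ 𝐍(A)) : φ (t * (x * y) * t) = φ (t * x * t) * φ (t * y * t) := by
  rw [h.tmul, h.φm _ (h.tj c) _ (h.tj d)]
theorem φc' (hm : m ∈ M ⊓ 𝐍(A)) (c : x ∈ M ⊓ 𝐍(A)) : φ (t * (m * x * m⁻¹) * t) = φ (t * x * t) := by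
  rw [h.tmul, h.tmul, h.tinv, h.φc (h.tj hm) (h.tj c)]
theorem kB (c : x ∈ cj[t] A) : φ x = 1 := h.kC x ⟨h.BM c, h.com' c⟩
theorem φ2 (c : s ∈ M ⊓ 𝐍(A)) (s2 : s * s = 1) : φ s * φ s = 1 := by rw [← h.φm _ c _ c, s2, h.φ1]
theorem tsq (s2 : s * s = 1) : t * s * t * (t * s * t) = 1 := by rw [← h.tmul, s2, mul_one, h.tt]

/-- the swap sign -/
theorem eps : ∃ ε : G → ℤˣ, (∀ x ∈ M, ∀ y ∈ M, ε (x * y) = ε x * ε y) ∧ ∀ x, ε x = 1 ↔ x ∈ 𝐍(A) := by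
  classical
  refine ⟨fun x => if x ∈ 𝐍(A) then 1 else -1, fun x hx y hy => ?_, fun x => by by_cases c : x ∈ 𝐍(A) <;> simp [c]⟩
  by_cases c : x ∈ 𝐍(A) <;> by_cases d : y ∈ 𝐍(A)
  · simp [c, d, mul_mem]
  · simp [c, d, mul_mem_cancel_left c]
  · simp [c, d, mul_mem_cancel_right d]
  · simp [c, d, h.swp_mul hx hy c d]

/-- `2`-subgroups containing `t` lie in `M` -/
theorem sub2 (p : IsPGroup 2 R) (c : t ∈ R) : R ≤ M := by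
  by_contra n
  obtain ⟨x, ⟨x1, x2⟩, x3⟩ := SetLike.exists_of_lt (lt_inf_normalizer (Q := R ⊓ M) p
    (lt_of_le_of_ne inf_le_left fun e => n (e.ge.trans inf_le_right)))
  exact x3 ⟨x1, h.uq x (conj_mem_of_mem_normalizer x2 ⟨c, h.tM⟩).2⟩

/-- the kernel of the action on both factors has odd order -/
theorem oddD : Odd (Nat.card ↥(M ⊓ (𝐂(A) ⊓ 𝐂(cj[t] A)))) := by
  have s := h.sylM.inf_of_le_normalizer (N := M ⊓ (𝐂(A) ⊓ 𝐂(cj[t] A))) inf_le_left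
    (le_normalizer_inf le_normalizer fun m hm => cj_eq_self_iff.1 (by
      rw [cj_inf, cj_centralizer, cj_centralizer]
      rcases h.sw m hm with c | c <;> rw [c.1, c.2]
      exact inf_comm ..))
  by_contra n
  exact s.ne_bot_iff.2 (even_iff_two_dvd.1 (Nat.not_odd_iff_even.1 n))
    (eq_bot_iff.2 fun _ c => mem_bot.2 (h.triv c.1 c.2.2.1 c.2.2.2))

theorem triv2 (hm : x ∈ M) (h1 : x ∈ 𝐂(A)) (h2 : x ∈ 𝐂(cj[t] A)) {n : ℕ} (e : x ^ 2 ^ n = 1) : x = 1 :=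
  orderOf_eq_one_iff.1 (((Nat.coprime_two_right.2 (h.oddD.of_dvd_nat (orderOf_dvd_natCard _ ⟨hm, h1, h2⟩))).pow_right
    n).eq_one_of_dvd (orderOf_dvd_of_pow_eq_one e))

/-- an element of `W` is determined by its type -/
theorem w1 (c : w ∈ W) (a2 : φ w = 1) (a4 : φ (t * w * t) = 1) : w = 1 :=
  h.triv (h.WS c).1 (h.cen w c a2) (h.c12.2 (h.cen _ (h.wt c) a4))

theorem winj (c : w ∈ W) (d : x ∈ W) (a2 : φ w = φ x) (a4 : φ (t * w * t) = φ (t * x * t)) : w = x := by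
  have c' := h.W0 c
  have d' := h.W0 d
  refine mul_inv_eq_one.1 (h.w1 (mul_mem c (inv_mem d)) ?_ ?_)
  · rw [h.φm _ c' _ (inv_mem d'), h.φi d', a2, mul_inv_cancel]
  · rw [h.φm' c' (inv_mem d'), h.tinv, h.φi (h.tj d'), a4, mul_inv_cancel]

theorem wcomm (c : w ∈ W) (d : x ∈ W) : w * x = x * w := by
  have c' := h.W0 c
  have d' := h.W0 d
  refine h.winj (mul_mem c d) (mul_mem d c) ?_ ?_
  · rw [h.φm _ c' _ d', h.φm _ d' _ c', mul_comm]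
  · rw [h.φm' c' d', h.φm' d' c', mul_comm]

/-- diagonal elements of `W` commute with `t` -/
theorem diag (c : w ∈ W) (a2 : φ (t * w * t) = φ w) : w * t = t * w := by
  have := h.winj (h.wt c) c a2 (by rw [h.tc, a2])
  rw [← this, mul_assoc, h.tt, mul_one, this]

theorem typ (hu : u ∈ A) (hv : v ∈ cj[t] A) (hw : w ∈ M ⊓ 𝐍(A)) :
    φ (u * v * w) = φ w ∧ φ (t * (u * v * w) * t) = φ (t * w * t) := by
  have a := h.A0 hu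
  have b := h.B0 hv
  rw [h.φm _ (mul_mem a b) _ hw, h.φm' (mul_mem a b) hw, h.φm _ a _ b, h.φm' a b, h.kA u hu, h.kB hv,
    h.kB (h.t_mem hu), h.kA _ (h.mem_t.1 hv)]
  simp

/-- decomposition with types -/
theorem wdec (hs : s ∈ S ⊓ 𝐍(A)) : ∃ u ∈ S ⊓ A, ∃ v ∈ S ⊓ cj[t] A, ∃ w ∈ W, s = u * v * w ∧ φ s = φ w ∧
    φ (t * s * t) = φ (t * w * t) := by
  obtain ⟨u, hu, v, hv, w, hw, rfl⟩ := h.dec s hs
  exact ⟨u, hu, v, hv, w, hw, rfl, h.typ hu.2 hv.2 (h.W0 hw)⟩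

theorem inU (hs : s ∈ S ⊓ 𝐍(A)) (a2 : φ s = 1) (a4 : φ (t * s * t) = 1) :
    ∃ u ∈ S ⊓ A, ∃ v ∈ S ⊓ cj[t] A, s = u * v := by
  obtain ⟨u, hu, v, hv, w, hw, e, b2, b4⟩ := h.wdec hs
  exact ⟨u, hu, v, hv, by rw [e, h.w1 hw (b2 ▸ a2) (b4 ▸ a4), mul_one]⟩

theorem nU1 : S ⊓ 𝐍(A) ≤ 𝐍(S ⊓ A) := le_normalizer_inf (inf_le_left.trans le_normalizer) inf_le_right
theorem nU2 : S ⊓ 𝐍(A) ≤ 𝐍(S ⊓ cj[t] A) :=
  le_normalizer_inf (inf_le_left.trans le_normalizer) fun _ c => h.nB (h.S0 c)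
theorem memU : x ∈ (S ⊓ A) ⊔ (S ⊓ cj[t] A) ↔ ∃ u ∈ S ⊓ A, ∃ v ∈ S ⊓ cj[t] A, u * v = x :=
  mem_sup_of_le_normalizer (h.U2.trans h.nU1)
theorem disU : (S ⊓ A) ⊓ (S ⊓ cj[t] A) = ⊥ := eq_bot_iff.2 fun _ c => mem_bot.2 (h.int c.1.1 c.1.2 c.2.2)
theorem card2 : Nat.card ↥(S ⊓ cj[t] A) = Nat.card ↥(S ⊓ A) := by rw [← h.tU, card_cj]
theorem cardU : Nat.card ↥((S ⊓ A) ⊔ (S ⊓ cj[t] A)) = Nat.card ↥(S ⊓ A) * Nat.card ↥(S ⊓ A) := by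
  rw [cseq (h.U1.trans h.nU2) h.disU, h.card2]

theorem half {X : Subgroup G} (c : X ≤ M) : Nat.card X ≤ 2 * Nat.card ↥(X ⊓ 𝐍(A)) := by
  have : 𝐍(A).relIndex X ∣ 2 := relIndex_dvd_two_iff.2 (by
    by_cases d : X ≤ 𝐍(A)
    · exact ⟨1, one_mem _, fun b hb => .inr (d hb)⟩
    obtain ⟨x, x1, x2⟩ := SetLike.not_le_iff_exists.1 d
    exact ⟨x, x1, fun b hb => or_iff_not_imp_right.2 fun e => h.swp_mul (c hb) (c x1) e x2⟩)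
  rw [← card_inf_mul_relIndex 𝐍(A) X, inf_comm, mul_comm]
  exact Nat.mul_le_mul_right _ (Nat.le_of_dvd two_pos this)

/-- the index of the product of the two Sylow subgroups -/
theorem rel0 {X : Subgroup G} (c : X ≤ S ⊓ 𝐍(A)) :
    Nat.card X ≤ Nat.card W * Nat.card ↥(X ⊓ ((S ⊓ A) ⊔ (S ⊓ cj[t] A))) := by
  have l : (S ⊓ A) ⊔ (S ⊓ cj[t] A) ≤ S ⊓ 𝐍(A) := sup_le h.U1 h.U2
  have a : Nat.card ↥(S ⊓ 𝐍(A)) ≤ Nat.card W * Nat.card ↥((S ⊓ A) ⊔ (S ⊓ cj[t] A)) :=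
    (card_le_card_of_le fun s hs => by
      obtain ⟨u, hu, v, hv, w, hw, rfl⟩ := h.dec s hs
      exact mul_mem (mem_sup_right (h.memU.2 ⟨u, hu, v, hv, rfl⟩)) (mem_sup_left hw)).trans
      (csle (h.WS.trans (le_normalizer_sup h.nU1 h.nU2)))
  rw [← card_mul_relIndex l, mul_comm] at a
  rw [← card_inf_mul_relIndex _ X, inf_comm, mul_comm]
  exact Nat.mul_le_mul_right _ ((relIndex_le_of_le_right c index_ne_zero_of_finite).trans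
    (Nat.le_of_mul_le_mul_right a Nat.card_pos))

theorem rel {X : Subgroup G} (c : X ≤ S) :
    Nat.card X ≤ 2 * Nat.card W * Nat.card ↥(X ⊓ ((S ⊓ A) ⊔ (S ⊓ cj[t] A))) :=
  (h.half (c.trans h.SM)).trans (mul_assoc 2 _ _ ▸ Nat.mul_le_mul_left 2 ((h.rel0 (inf_le_inf_right _ c)).trans
    (Nat.mul_le_mul_left _ (card_le_card_of_le (inf_le_inf_right _ inf_le_left)))))

/-- centralisers in the product split -/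
theorem spl (hs : s ∈ S ⊓ 𝐍(A)) (hu : u ∈ S ⊓ A) (hv : v ∈ S ⊓ cj[t] A) (c : u * v * s = s * (u * v)) :
    u * s = s * u ∧ v * s = s * v := by
  have e : u⁻¹ * (s * u * s⁻¹) = v * (s * v * s⁻¹)⁻¹ := by
    rw [inv_mul_eq_iff_eq_mul, ← mul_assoc, eq_mul_inv_iff_mul_eq, ← mul_inv_eq_iff_eq_mul.2 c.symm]; group
  have a := mul_mem (inv_mem hu) (conj_mem_of_mem_normalizer (h.nU1 hs) hu)
  have b := h.int a.1 a.2 (e ▸ mul_mem hv (inv_mem (conj_mem_of_mem_normalizer (h.nU2 hs) hv))).2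
  exact ⟨(mul_inv_eq_iff_eq_mul.1 (inv_mul_eq_one.1 b).symm).symm,
    (mul_inv_eq_iff_eq_mul.1 (mul_inv_eq_one.1 (e ▸ b)).symm).symm⟩

theorem cardC (s : G) : Nat.card ↥(S ⊓ cj[t] A ⊓ 𝐂₁(s)) = Nat.card ↥(S ⊓ A ⊓ 𝐂₁(t * s * t)) := by
  rw [← card_cj t, cj_inf, ← h.tU, h.cjtt, cj_centralizer_singleton, h.ti]

theorem upU (hs : s ∈ S ⊓ 𝐍(A)) {X : Subgroup G} (c : X ≤ 𝐂₁(s)) : Nat.card ↥(X ⊓ ((S ⊓ A) ⊔ (S ⊓ cj[t] A))) ≤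
    Nat.card ↥(S ⊓ A ⊓ 𝐂₁(s)) * Nat.card ↥(S ⊓ A ⊓ 𝐂₁(t * s * t)) := by
  rw [← h.cardC]
  refine (card_le_card_of_le fun x hx => ?_).trans (csle ((centralizer_le_normalizer _).trans'
    fun x hx => mem_centralizer_iff'.2 fun y hy => (h.cm12 hx.1.2 hy.1.2).symm))
  obtain ⟨u, hu, v, hv, rfl⟩ := h.memU.1 hx.2
  have := h.spl hs hu hv (c1m.1 (c hx.1))
  exact mul_mem (mem_sup_left ⟨hu, c1m.2 this.1⟩) (mem_sup_right ⟨hv, c1m.2 this.2⟩)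

theorem upS {s : G} (hs : s ∈ S ⊓ 𝐍(A)) : Nat.card ↥(S ⊓ 𝐂₁(s)) ≤
    2 * Nat.card W * (Nat.card ↥(S ⊓ A ⊓ 𝐂₁(s)) * Nat.card ↥(S ⊓ A ⊓ 𝐂₁(t * s * t))) :=
  (h.rel inf_le_left).trans (Nat.mul_le_mul_left _ (h.upU hs inf_le_right))

theorem upS0 (hs : s ∈ S ⊓ 𝐍(A)) : Nat.card ↥(S ⊓ 𝐍(A) ⊓ 𝐂₁(s)) ≤
    Nat.card W * (Nat.card ↥(S ⊓ A ⊓ 𝐂₁(s)) * Nat.card ↥(S ⊓ A ⊓ 𝐂₁(t * s * t))) :=
  (h.rel0 inf_le_left).trans (Nat.mul_le_mul_left _ (h.upU hs inf_le_right))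

theorem upSw {s : G} (hs : s ∈ S) (n : s ∉ 𝐍(A)) :
    Nat.card ↥(S ⊓ 𝐂₁(s)) ≤ 2 * Nat.card W * Nat.card ↥(S ⊓ A) := by
  refine (h.rel inf_le_left).trans (Nat.mul_le_mul_left _ (Nat.le_of_mul_le_mul_right ?_
    (Nat.card_pos (α := ↥(S ⊓ cj[t] A)))))
  rw [← cseq (inf_le_right.trans ((sup_le h.U1 h.U2).trans h.nU2)) (eq_bot_iff.2 fun x hx => mem_bot.2
    (h.int hx.2.1 ?_ hx.2.2)), h.card2, ← h.cardU]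
  · exact card_le_card_of_le (sup_le inf_le_right le_sup_right)
  · have := conj_mem_cj s hx.2.2
    rwa [(h.swp (h.SM hs) n).2, ← c1m.1 hx.1.1.2, mul_inv_cancel_right] at this

theorem c0 {s : G} (hs : s ∈ S ⊓ E) (c : s * t = t * s) : s ∈ 𝐍(A) := by
  obtain ⟨ε, e1, e2⟩ := h.eps
  obtain ⟨V, -, k⟩ := CF.Dbl.tt h.tt h.tM h.uq (MonoidHom.mk' (fun m : M => ε m) fun a b => e1 _ a.2 _ b.2)
  exact (e2 s).1 ((k Int.units_mul_self s (h.SM hs.1) c).symm.trans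
    (Abelianization.commutator_subset_ker V (commutator_mono le_top le_top (h.ep.ge hs.2))))

theorem adj (hm : m ∈ M) (c : w * t = t * w) : ∃ n ∈ M ⊓ 𝐍(A), m * w * m⁻¹ = n * w * n⁻¹ := by
  by_cases d : m ∈ 𝐍(A)
  · exact ⟨m, ⟨hm, d⟩, rfl⟩
  · exact ⟨_, h.mt hm d, by rw [mul_assoc m t, ← c]; group⟩

theorem sylC (c : w * t = t * w) : ∃ P, IsSyl 2 P 𝐂₁(w) ∧ t ∈ P ∧ P ≤ M := by
  obtain ⟨P, hP, l⟩ := exists_isSyl_ge (L := 𝐂₁(w)) (p2 h.tt) (zpowers_le.2 (c1m.2 c.symm))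
  exact ⟨P, hP, l (mem_zpowers t), h.sub2 hP.isPGroup (l (mem_zpowers t))⟩

theorem c1'' (c : w * t = t * w) (hy : IsConj y w) (p : IsPGroup 2 R) (hR : R ≤ 𝐂₁(y)) :
    ∃ x : G, cj[x] R ≤ S ∧ ∃ n ∈ M ⊓ 𝐍(A), x * y * x⁻¹ = n * w * n⁻¹ := by
  obtain ⟨x, rfl⟩ := isConj_iff.1 hy
  obtain ⟨P, hP, -, l⟩ := h.sylC c
  obtain ⟨d, hd, e⟩ := hP.exists_cj_le (isPGroup_cj x p) (cj_centralizer_singleton x y ▸ cj_mono x hR)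
  obtain ⟨m, hm, e'⟩ := h.sylM.exists_cj_le hP.isPGroup l
  obtain ⟨n, hn, k⟩ := h.adj hm c
  refine ⟨m * d * x, by rw [cj_mul, cj_mul]; exact (cj_mono m e).trans e', n, hn, ?_⟩
  rw [← k, ← mul_inv_eq_iff_eq_mul.2 (c1m.1 hd)]; group

theorem c1' (hw : w ∈ M ⊓ 𝐍(A)) (c : w * t = t * w) (hy : IsConj y w) {R : Subgroup G}
    (p : IsPGroup 2 R) (hR : R ≤ 𝐂₁(y)) : ∃ x : G, cj[x] R ≤ S ∧ x * y * x⁻¹ ∈ 𝐍(A) ∧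
      φ (x * y * x⁻¹) = φ w ∧ φ (t * (x * y * x⁻¹) * t) = φ w := by
  obtain ⟨x, a, n, hn, k⟩ := h.c1'' c hy p hR
  refine ⟨x, a, ?_⟩
  rw [k, h.φc hn hw, h.φc' hn hw, h.tfix c]
  exact ⟨(mul_mem (mul_mem hn hw) (inv_mem hn)).2, rfl, rfl⟩

theorem sqC (hu : u ∈ A) (hv : v ∈ cj[t] A) (hw : w ∈ M ⊓ 𝐍(A)) (s2 : u * v * w * (u * v * w) = 1) :
    u * w * (u * w) ∈ cj[t] A := by
  have := inv_mem (mul_mem hv (conj_mem_of_mem_normalizer (h.nB (mul_mem (h.A0 hu) hw)) hv))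
  rw [h.cm12 hu hv] at s2
  rwa [inv_eq_of_mul_eq_one_right (b := u * w * (u * w)) (by rw [← s2]; group)] at this

theorem lo2 {R R' : Subgroup G} (p : IsPGroup 2 R) (p' : IsPGroup 2 R') (hR : R ≤ A) (hR' : R' ≤ A) :
    IsPGroup 2 ↥(R ⊔ cj[t] R') ∧ Nat.card ↥(R ⊔ cj[t] R') = Nat.card R * Nat.card R' := by
  have n : R ≤ 𝐍(cj[t] R') := hR.trans (h.com.trans (centralizer_le_normalizer_of_le (cj_mono t hR')))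
  refine ⟨IsPGroup.to_sup_of_normal_right' p (isPGroup_cj t p') n, ?_⟩
  rw [cseq n (eq_bot_iff.2 fun x c => ?_), card_cj]
  obtain ⟨n, e⟩ := isPGroup_iff_forall.1 p x c.1
  exact h.triv2 (h.AM (hR c.1)) (h.com' (cj_mono t hR' c.2)) (h.com (hR c.1)) e

theorem cjM (e : m ∈ M) (q : s ∈ M ⊓ 𝐍(A)) : m * s * m⁻¹ ∈ M ⊓ 𝐍(A) := by
  refine ⟨M.mul_mem (mul_mem e q.1) (inv_mem e), ?_⟩
  by_cases n : m ∈ 𝐍(A)
  · exact conj_mem_of_mem_normalizer (le_normalizer n) q.2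
  exact h.swp_mul (mul_mem e q.1) (inv_mem e) (fun c => n ((mul_mem_cancel_right (mem_inf.1 q).2).1 c)) fun c => n (inv_mem_iff.1 c)
theorem τ_mul (p : s ∈ M ⊓ 𝐍(A)) (q : r ∈ M ⊓ 𝐍(A)) : ty t φ (s * r) = ty t φ s * ty t φ r := by
  simp only [ty, h.φm _ p _ q, h.φm' p q, Prod.mk_mul_mk]
/-- the type as a homomorphism -/
def τh : ↥(M ⊓ 𝐍(A)) →* Φ × Φ := MonoidHom.mk' (fun s => ty t φ s) fun s r => h.τ_mul s.2 r.2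
theorem τ_1 : ty t φ 1 = 1 := map_one h.τh
theorem τ_inv (p : s ∈ M ⊓ 𝐍(A)) : ty t φ s⁻¹ = (ty t φ s)⁻¹ := map_inv h.τh ⟨s, p⟩
theorem τ_pow (p : s ∈ M ⊓ 𝐍(A)) (n : ℕ) : ty t φ (s ^ n) = ty t φ s ^ n := map_pow h.τh ⟨s, p⟩ n
theorem τ_cj (e : m ∈ M ⊓ 𝐍(A)) (p : s ∈ M ⊓ 𝐍(A)) : ty t φ (m * s * m⁻¹) = ty t φ s := by
  rw [h.τ_mul (mul_mem e p) (inv_mem e), h.τ_mul e p, h.τ_inv e, mul_inv_cancel_comm]
theorem τ_t (s : G) : ty t φ (t * s * t) = (ty t φ s).swap := by simp only [ty, h.tc, Prod.swap]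
theorem τ_sw (e : m ∈ M) (n : m ∉ 𝐍(A)) (p : s ∈ M ⊓ 𝐍(A)) : ty t φ (m * s * m⁻¹) = (ty t φ s).swap := by
  rw [← h.τ_t, ← h.τ_cj (h.mt e n) (h.tj p), mul_inv_rev, h.ti]
  conv_lhs => rw [← h.tc s]
  simp only [mul_assoc]
theorem τ_M (e : m ∈ M) : (∀ s ∈ M ⊓ 𝐍(A), ty t φ (m * s * m⁻¹) = ty t φ s) ∨
    ∀ s ∈ M ⊓ 𝐍(A), ty t φ (m * s * m⁻¹) = (ty t φ s).swap :=
  (_root_.em (m ∈ 𝐍(A))).imp (fun n _ => h.τ_cj ⟨e, n⟩) fun n _ => h.τ_sw e n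
theorem τ_A (q : u ∈ A) : ty t φ u = 1 := ty_one.2 ⟨h.kA u q, h.kB (h.t_mem q)⟩
theorem τ_B (q : v ∈ cj[t] A) : ty t φ v = 1 := ty_one.2 ⟨h.kB q, h.kA _ (h.mem_t.1 q)⟩
theorem τ_der (l : H ≤ M ⊓ 𝐍(A)) (q : s ∈ ⁅H, H⁆) : ty t φ s = 1 := by
  obtain ⟨s, q', rfl⟩ := (commutator_le (H₃ := h.τh.ker.map (Subgroup.subtype _))).2 (fun x p y p' =>
    ⟨⁅(⟨x, l p⟩ : ↥(M ⊓ 𝐍(A))), ⟨y, l p'⟩⁆, by
      rw [SetLike.mem_coe, MonoidHom.mem_ker, map_commutatorElement, commutatorElement_eq_one_iff_mul_comm, mul_comm], rfl⟩) q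
  exact q'
theorem τ_w1 (q : w ∈ W) (e : ty t φ w = 1) : w = 1 := have e := ty_one.1 e; h.w1 q e.1 e.2
theorem τ_wd (q : s ∈ S ⊓ 𝐍(A)) : ∃ w ∈ W, ty t φ w = ty t φ s ∧ ∃ u ∈ S ⊓ A, ∃ v ∈ S ⊓ cj[t] A, s = u * v * w :=
  let ⟨u, a, v, b, w, c, e, e1, e2⟩ := h.wdec q
  ⟨w, c, (ty_iff.2 ⟨e1, e2⟩).symm, u, a, v, b, e⟩
theorem τ_wE (q : s ∈ S ⊓ 𝐍(A)) (e : s ∈ E) : ∃ w ∈ W, w ∈ E ∧ ty t φ w = ty t φ s :=
  let ⟨w, c, d, _, a, _, b, r⟩ := h.τ_wd q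
  ⟨w, c, (mul_mem_cancel_left (mul_mem (h.AE a.2) (h.BE b.2))).1 (r ▸ e), d⟩
theorem τ_uv (q : s ∈ S ⊓ 𝐍(A)) (e : ty t φ s = 1) : ∃ u ∈ S ⊓ A, ∃ v ∈ S ⊓ cj[t] A, s = u * v :=
  have e := ty_one.1 e; h.inU q e.1 e.2
theorem τ_sq (q : w ∈ W) (p : s ∈ M ⊓ 𝐍(A)) (s2 : s * s = 1) (e : ty t φ w = ty t φ s) : w * w = 1 :=
  h.τ_w1 (mul_mem q q) (by rw [h.τ_mul (h.W0 q) (h.W0 q), e, ← h.τ_mul p p, s2, h.τ_1])
theorem tE (c : x ∈ E) : t * x * t ∈ E := by have := h.en.conj_mem x c t; rwa [h.ti] at this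
theorem side (p : s ∈ S ⊓ 𝐍(A)) (c : H ≤ 𝐂₁(s)) :
    Nat.card ↥(H ⊓ (S ⊓ A ⊔ S ⊓ cj[t] A)) ≤ Nat.card ↥(H ⊓ (S ⊓ A)) * Nat.card ↥(S ⊓ A ⊓ 𝐂₁(t * s * t)) ∧
    Nat.card ↥(H ⊓ (S ⊓ A ⊔ S ⊓ cj[t] A)) ≤ Nat.card ↥(H ⊓ (S ⊓ cj[t] A)) * Nat.card ↥(S ⊓ A ⊓ 𝐂₁(s)) := by
  rw [← h.cardC]
  refine ⟨(cnt (K := S ⊓ A) fun x m => ?_).trans (Nat.mul_le_mul_right _ (cle (inf_le_inf_right _ inf_le_left))),
    (cnt (K := S ⊓ cj[t] A) fun x m => ?_).trans (Nat.mul_le_mul_right _ (cle (inf_le_inf_right _ inf_le_left)))⟩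
  all_goals
    obtain ⟨u, a, v, b, rfl⟩ := h.memU.1 m.2
    have := h.spl p a b (mem_c1.1 (c m.1))
  · exact ⟨v, ⟨b, mem_c1.2 this.2⟩, by rwa [mul_inv_cancel_right]⟩
  · exact ⟨u, ⟨a, mem_c1.2 this.1⟩, by rwa [h.cm12 a.2 b.2, mul_inv_cancel_right]⟩
theorem mono_kill (p : s ∈ S ⊓ 𝐍(A)) (o : Mono R k) (l : R ≤ S) (c : R ≤ 𝐂₁(s)) {n : ℕ}
    (b1 : Nat.card ↥(S ⊓ A ⊓ 𝐂₁(s)) ≤ n) (b2 : Nat.card ↥(S ⊓ A ⊓ 𝐂₁(t * s * t)) ≤ n) :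
    Nat.card R ≤ 2 * Nat.card W * k * n := by
  refine (h.rel l).trans ?_
  rw [mul_assoc _ k]
  refine Nat.mul_le_mul_left _ ?_
  rcases o (R ⊓ 𝐂(cj[t] A)) inf_le_left (R ⊓ 𝐂(A)) inf_le_left (eq_bot_iff.2 fun _ q => h.triv (l (mem_inf.1 q).1.1)
    (mem_inf.1 q).2.2 (mem_inf.1 q).1.2) (fun u m => by
      simp only [cj_inf, cj_centralizer, cj_eq_self_of_mem m]
      exact (h.sw u (h.SM (l m))).imp (fun q => ⟨by rw [q.2], by rw [q.1]⟩) fun q => ⟨by rw [q.2], by rw [q.1]⟩) with q | q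
  exacts [(h.side p c).1.trans (Nat.mul_le_mul ((cle (inf_le_inf_left _ (inf_le_right.trans h.com))).trans q) b2),
    (h.side p c).2.trans (Nat.mul_le_mul ((cle (inf_le_inf_left _ (inf_le_right.trans h.com'))).trans q) b1)]
/-- the diagonal subgroup attached to a swap -/
theorem dgs (p : y ∈ S) (n : y ∉ 𝐍(A)) (l : R ≤ S ⊓ A ⊓ 𝐂₁(y * y)) :
    ∃ f : R →* G, Function.Injective f ∧ f.range ≤ (S ⊓ A ⊔ S ⊓ cj[t] A) ⊓ 𝐂₁(y) := by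
  have b : ∀ u : R, y * u * y⁻¹ ∈ cj[t] A := fun u => (h.swp (h.SM p) n).1 ▸ conj_mem_cj y (l u.2).1.2
  refine ⟨MonoidHom.mk' (fun u => u * (y * u * y⁻¹)) fun u v => by
    rw [coe_mul, conj_mul_conj, mul_assoc u.1, mul_assoc u.1, ← mul_assoc v.1, h.cm12 (l v.2).1.2 (b u), mul_assoc _ v.1],
    (injective_iff_map_eq_one _).2 fun u e => Subtype.ext (h.int (l u.2).1.1 (l u.2).1.2 ?_), ?_⟩
  · exact eq_inv_of_mul_eq_one_left e ▸ inv_mem (b u)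
  rintro _ ⟨u, rfl⟩
  refine ⟨mul_mem_sup (l u.2).1 ⟨conj_mem_of_mem_normalizer (le_normalizer p) (l u.2).1.1, b u⟩,
    mem_c1.2 (conj_eq_iff.1 ?_).symm⟩
  change y * (u * (y * u * y⁻¹)) * y⁻¹ = u * (y * u * y⁻¹)
  rw [conj_mul_conj, h.cm12 (l u.2).1.2 (b u), show y * (y * u * y⁻¹) * y⁻¹ = y * y * u * (y * y)⁻¹ by group,
    ← mem_c1.1 (l u.2).2, mul_inv_cancel_right]

/-- norms are diagonal -/
theorem nd (hw : w ∈ W) : w * (t * w * t) * t = t * (w * (t * w * t)) :=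
  (conj_eq_iff.1 (by rw [h.ti, h.tmul, h.tc, h.wcomm hw (h.wt hw)])).symm

theorem nd2 (hw : w ∈ W) (c : w * w = 1) : w * (t * w * t) * (w * (t * w * t)) = 1 := by
  rw [mul_assoc, ← mul_assoc (t * w * t), ← h.wcomm hw (h.wt hw), mul_assoc w, h.tsq c, mul_one, c]

theorem wn (hw : w ∈ W) : w * t ∈ S ∧ w * t ∉ 𝐍(A) :=
  ⟨mul_mem (h.WS hw).1 h.tS, fun c => h.tn ((𝐍(A).mul_mem_cancel_left (h.WS hw).2).1 c)⟩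

/-- the `W`-part of a swap -/
theorem ws (hs : s ∈ S ⊓ E) (n : s ∉ 𝐍(A)) : ∃ w ∈ W, w * t ∈ E ∧ (s * s = 1 → w * (t * w * t) = 1) := by
  have s0 := h.mt (h.SM hs.1) n
  obtain ⟨u, hu, v, hv, w, hw, e, b2, b4⟩ := h.wdec ⟨mul_mem hs.1 h.tS, s0.2⟩
  have w0 := h.W0 hw
  refine ⟨w, hw, (mul_mem_cancel_left (mul_mem (h.AE hu.2) (h.BE hv.2))).1
    (by rw [← mul_assoc, ← e, mul_assoc, h.tt, mul_one]; exact hs.2), fun c => ?_⟩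
  have k : s * t * (t * (s * t) * t) = 1 := by
    rw [mul_assoc t, mul_assoc s t t, h.tt, mul_one, ← mul_assoc, mul_assoc s, h.tt, mul_one, c]
  have k2 : φ (w * (t * w * t)) = 1 := by rw [h.φm _ w0 _ (h.tj w0), ← b2, ← b4, ← h.φm _ s0 _ (h.tj s0), k, h.φ1]
  exact h.w1 (mul_mem hw (h.wt hw)) k2 (by rwa [h.tfix (h.nd hw)])

theorem ndg (hw : w ∈ W) (c : w * t ∈ E) : φ (t * w * t) ≠ φ w := fun e =>
  (h.wn hw).2 (h.c0 ⟨(h.wn hw).1, c⟩ (by rw [← mul_assoc, h.diag hw e]))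

end KA

end CF.Od
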